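import Groth.Agent.Lib.GrpField.Dim
import Groth.Agent.Lib.RegSmooth17.Scheme
import Groth.Agent.Lib.WeilExt.Apply
import Mathlib.AlgebraicGeometry.Group.Smooth
import Mathlib.AlgebraicGeometry.Morphisms.LocalFlatDescent

/-!
# Smoothness of group schemes over a field is tested at the unit
-/

open CategoryTheory Limits AlgebraicGeometry MonoidalCategory CartesianMonoidalCategory MonObj

set_option linter.style.haveILetI false
set_option backward.isDefEq.respectTransparency false

namespace Groth.Agent.GrpField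

universe u

variable {K : Type u} [Field K] (G : Over (Spec (CommRingCat.of K))) [GrpObj G] [LocallyOfFiniteType G.hom]

/-- A group scheme smooth near one point is smooth. -/
theorem smooth_of_smooth_open (U : G.left.Opens) (hU : (U : Set G.left).Nonempty) [Smooth (U.ι ≫ G.hom)] :
    Smooth G.hom := by
  let Kb := AlgebraicClosure K
  let φ := Spec.map (CommRingCat.ofHom (algebraMap K Kb))
  haveI : Surjective φ := ⟨Function.surjective_to_subsingleton
    (α := Spec (CommRingCat.of Kb)) (β := Spec (CommRingCat.of K)) _⟩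
  apply MorphismProperty.of_pullback_snd_of_descendsAlong
    (Q := @Surjective ⊓ @Flat ⊓ @QuasiCompact) (g := φ)
  · exact ⟨⟨inferInstance, inferInstance⟩, inferInstance⟩
  let H := (Over.pullback φ).obj G
  haveI : GrpObj H := Functor.grpObjObj
  haveI : LocallyOfFiniteType H.hom := inferInstanceAs (LocallyOfFiniteType (pullback.snd G.hom φ))
  haveI : IsLocallyNoetherian H.left := LocallyOfFiniteType.isLocallyNoetherian H.hom
  haveI : JacobsonSpace H.left := LocallyOfFiniteType.jacobsonSpace H.hom
  let π : H.left ⟶ G.left := pullback.fst G.hom φ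
  let U' : H.left.Opens := π ⁻¹ᵁ U
  haveI : Smooth (U'.ι ≫ H.hom) := by
    have hp : IsPullback (π ∣_ U) (U'.ι ≫ H.hom) (U.ι ≫ G.hom) φ :=
      IsPullback.paste_vert (isPullback_morphismRestrict π U) (IsPullback.of_hasPullback G.hom φ)
    exact MorphismProperty.of_isPullback hp ‹Smooth (U.ι ≫ G.hom)›
  haveI : LocallyOfFinitePresentation H.hom := inferInstance
  have hsub : U' ≤ H.hom.smoothLocus := by
    intro x hx
    have h : (⟨x, hx⟩ : (U' : Scheme.{u})) ∈ U'.ι ⁻¹ᵁ H.hom.smoothLocus := by
      rw [Scheme.Hom.preimage_smoothLocus_eq, Scheme.Hom.smoothLocus_eq_top]; trivial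
    exact h
  obtain ⟨x₀, hx₀⟩ := hU
  obtain ⟨y₀, hy₀⟩ := π.surjective x₀
  obtain ⟨y, hy, hyc⟩ := nonempty_inter_closedPoints (Z := (U' : Set H.left)) ⟨y₀, by
    show π y₀ ∈ U; rw [hy₀]; exact hx₀⟩ U'.isOpen.isLocallyClosed
  show Smooth H.hom
  rw [← Scheme.Hom.smoothLocus_eq_top_iff, ← TopologicalSpace.Opens.coe_eq_univ, ← not_ne_iff,
    ← Set.nonempty_compl]
  intro hne
  obtain ⟨x, hx, hxc⟩ := nonempty_inter_closedPoints hne H.hom.smoothLocus.2.isClosed_compl.isLocallyClosed
  let px : 𝟙_ (Over (Spec (CommRingCat.of Kb))) ⟶ H := Over.homMk (pointOfClosedPoint H.hom x hxc) (by simp)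
  let py : 𝟙_ (Over (Spec (CommRingCat.of Kb))) ⟶ H := Over.homMk (pointOfClosedPoint H.hom y hyc) (by simp)
  let τ : H ≅ H := (GrpObj.mulRight px).symm ≪≫ GrpObj.mulRight py
  have hτ : τ.hom.left x = y := by
    have e : px ≫ τ.hom = py := by
      dsimp only [Iso.trans_hom, Iso.symm_hom, τ]
      rw [← Category.assoc, ← Iso.eq_comp_inv]
      simp [comp_lift_assoc]
    simpa [px, py] using congr(($e).left (IsLocalRing.closedPoint Kb))
  haveI : IsIso τ.hom.left := inferInstanceAs (IsIso ((Over.forget _).map τ.hom))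
  have h := hsub hy
  rw [← hτ] at h
  have h' : x ∈ τ.hom.left ⁻¹ᵁ H.hom.smoothLocus := h
  rw [Scheme.Hom.preimage_smoothLocus_eq] at h'
  simp only [Over.w τ.hom] at h'
  exact hx h'

theorem germ_stalkClosedPointTo_top {X : Scheme.{u}} (a : Spec (CommRingCat.of K) ⟶ X) :
    X.presheaf.germ ⊤ (a (IsLocalRing.closedPoint K)) trivial ≫ Scheme.stalkClosedPointTo a =
      a.appTop ≫ (Scheme.ΓSpecIso (CommRingCat.of K)).hom := by
  refine (Scheme.germ_stalkClosedPointTo a ⊤ trivial).trans ?_
  simp

theorem toStalk_stalkClosedPointTo {X : Scheme.{u}} (f : X ⟶ Spec (CommRingCat.of K))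
    (a : Spec (CommRingCat.of K) ⟶ X) (ha : a ≫ f = 𝟙 _) :
    CommRingCat.ofHom (RegSmooth17.toStalk f (a (IsLocalRing.closedPoint K))) ≫
      Scheme.stalkClosedPointTo a = 𝟙 _ := by
  have e : f.appTop ≫ a.appTop = 𝟙 _ := by
    rw [← Scheme.Hom.comp_appTop, ha, Scheme.Hom.id_appTop]
  show ((Scheme.ΓSpecIso (CommRingCat.of K)).inv ≫ f.appTop ≫
      X.presheaf.germ ⊤ (a (IsLocalRing.closedPoint K)) trivial) ≫ Scheme.stalkClosedPointTo a = 𝟙 _
  rw [Category.assoc, Category.assoc, germ_stalkClosedPointTo_top, ← Category.assoc f.appTop, e,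
    Category.id_comp, Iso.inv_hom_id]

/-- The residue field of a rational point is the base field. -/
theorem bijective_residue_of_section {X : Scheme.{u}} (f : X ⟶ Spec (CommRingCat.of K))
    (a : Spec (CommRingCat.of K) ⟶ X) (ha : a ≫ f = 𝟙 _) :
    Function.Bijective ((X.residue (a (IsLocalRing.closedPoint K))).hom.comp
      (RegSmooth17.toStalk f (a (IsLocalRing.closedPoint K)))) := by
  have hr : ∀ c : K, (X.descResidueField (Scheme.stalkClosedPointTo a)).hom
      ((X.residue (a (IsLocalRing.closedPoint K))).hom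
        (RegSmooth17.toStalk f (a (IsLocalRing.closedPoint K)) c)) = c := fun c => by
    have h := ConcreteCategory.congr_hom (toStalk_stalkClosedPointTo f a ha) c
    rw [← X.residue_descResidueField (Scheme.stalkClosedPointTo a)] at h
    exact h
  exact ⟨RingHom.injective _,
    fun b => ⟨_, (X.descResidueField (Scheme.stalkClosedPointTo a)).hom.injective (hr _)⟩⟩

theorem formallySmooth_residue_of_section {X : Scheme.{u}} (f : X ⟶ Spec (CommRingCat.of K))
    (a : Spec (CommRingCat.of K) ⟶ X) (ha : a ≫ f = 𝟙 _) :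
    ((X.residue (a (IsLocalRing.closedPoint K))).hom.comp
      (RegSmooth17.toStalk f (a (IsLocalRing.closedPoint K)))).FormallySmooth :=
  RingHom.FormallySmooth.of_bijective (bijective_residue_of_section f a ha)

/-- A rational point with regular local ring lies in the smooth locus. -/
theorem mem_smoothLocus_of_regular {X : Over (Spec (CommRingCat.of K))} [LocallyOfFinitePresentation X.hom]
    (a : 𝟙_ (Over (Spec (CommRingCat.of K))) ⟶ X)
    [IsRegularLocalRing (X.left.presheaf.stalk (a.left (IsLocalRing.closedPoint K)))] :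
    a.left (IsLocalRing.closedPoint K) ∈ X.hom.smoothLocus :=
  RegSmooth17.mem_smoothLocus_of_isRegularLocalRing X.hom _
    (formallySmooth_residue_of_section X.hom a.left (Over.w a))

/-- The image of the unit section. -/
noncomputable abbrev unitPoint : G.left := η[G].left (IsLocalRing.closedPoint K)

theorem isClosed_unitPoint : IsClosed ({unitPoint G} : Set G.left) := by
  have ha : η[G].left ≫ G.hom = 𝟙 _ := Over.w η[G]
  haveI : JacobsonSpace G.left := LocallyOfFiniteType.jacobsonSpace G.hom
  haveI : LocallyOfFiniteType η[G].left := by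
    haveI : LocallyOfFiniteType (η[G].left ≫ G.hom) := by rw [ha]; infer_instance
    exact locallyOfFiniteType_of_comp η[G].left G.hom
  have := Scheme.Hom.closePoints_subset_preimage_closedPoints η[G].left
    (show IsLocalRing.closedPoint K ∈ closedPoints (Spec (CommRingCat.of K)) from isClosed_discrete _)
  exact this

theorem topologicalKrullDim_le_finrank :
    topologicalKrullDim G.left ≤ ((Module.finrank (IsLocalRing.ResidueField (G.left.presheaf.stalk (unitPoint G)))
        (IsLocalRing.CotangentSpace (G.left.presheaf.stalk (unitPoint G))) : ℕ∞) : WithBot ℕ∞) := by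
  haveI : IsLocallyNoetherian G.left := LocallyOfFiniteType.isLocallyNoetherian G.hom
  rw [← ringKrullDim_stalk_eq G _ (isClosed_unitPoint G),
    ← IsLocalRing.spanFinrank_maximalIdeal_eq_finrank_cotangentSpace]
  exact ringKrullDim_le_spanFinrank_maximalIdeal _

theorem smooth_iff_finrank_eq :
    Smooth G.hom ↔ topologicalKrullDim G.left = ((Module.finrank (IsLocalRing.ResidueField (G.left.presheaf.stalk (unitPoint G)))
        (IsLocalRing.CotangentSpace (G.left.presheaf.stalk (unitPoint G))) : ℕ∞) : WithBot ℕ∞) := by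
  haveI : IsLocallyNoetherian G.left := LocallyOfFiniteType.isLocallyNoetherian G.hom
  rw [← ringKrullDim_stalk_eq G _ (isClosed_unitPoint G), eq_comm]
  refine ⟨fun _ => ?_, fun h => ?_⟩
  · haveI := WeilExt.isRegularLocalRing_stalk_of_smooth G.hom (unitPoint G)
    exact (IsRegularLocalRing.iff_finrank_cotangentSpace _).1 inferInstance
  · haveI : IsRegularLocalRing (G.left.presheaf.stalk (unitPoint G)) :=
      (IsRegularLocalRing.iff_finrank_cotangentSpace _).2 h
    have hmem : unitPoint G ∈ G.hom.smoothLocus := mem_smoothLocus_of_regular (X := G) η[G]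
    haveI : Smooth (G.hom.smoothLocus.ι ≫ G.hom) := by
      rw [← Scheme.Hom.smoothLocus_eq_top_iff, ← Scheme.Hom.preimage_smoothLocus_eq,
        Scheme.Opens.ι_preimage_self]
    exact smooth_of_smooth_open G G.hom.smoothLocus ⟨_, hmem⟩

end Groth.Agent.GrpField
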