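import Groth.Agent.Lib.VarDim.Scheme
import Groth.Agent.Lib.AbRigid.Connected
import Groth.Agent.Lib.H12.DimZero

/-!
# Dimension of group schemes locally of finite type over a field
-/

open CategoryTheory Limits AlgebraicGeometry MonoidalCategory CartesianMonoidalCategory MonObj Order

set_option linter.style.haveILetI false
set_option backward.isDefEq.respectTransparency false

namespace Groth.Agent.GrpField

universe u

/-- A flat integral morphism preserves the dimension of local rings. -/
theorem coheight_apply_of_flat_isIntegralHom {X Y : Scheme.{u}} (π : X ⟶ Y) [Flat π] [IsIntegralHom π] (z : X) :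
    coheight (π z) = coheight z := by
  refine le_antisymm ?_ ?_
  · refine coheight_le fun p hp => ?_
    suffices ∀ p : LTSeries Y, ∀ z : X, π z = p.head → ∃ q : LTSeries X, q.head = z ∧ q.length = p.length by
      obtain ⟨q, hq, hlen⟩ := this p z hp.symm
      rw [← hlen, ← hq]
      exact length_le_coheight_head
    intro p
    induction p using RelSeries.inductionOn with
    | singleton y => exact fun z _ => ⟨RelSeries.singleton _ z, rfl, rfl⟩
    | cons p y hy ih =>
      intro z hz
      rw [RelSeries.head_cons] at hz
      have hspec : p.head ⤳ π z := by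
        rw [hz]
        exact Scheme.le_iff_specializes.1 (le_of_lt hy)
      obtain ⟨z', hz', hz''⟩ := (Flat.generalizingMap π) hspec
      obtain ⟨q, hq, hlen⟩ := ih z' hz''
      refine ⟨q.cons z ?_, RelSeries.head_cons _ _ _, ?_⟩
      · show z < q.head
        rw [hq]
        refine lt_of_le_not_ge (Scheme.le_iff_specializes.2 hz') fun hge => ?_
        have h : z = q.head := by
          rw [hq]; exact ((Scheme.le_iff_specializes.1 hge).antisymm hz').eq
        rw [hq] at h
        have h2 : y = p.head := hz.symm.trans ((congrArg π h).trans hz'')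
        exact absurd h2 (ne_of_lt hy)
      · show 0 + q.length + 1 = 0 + p.length + 1
        rw [hlen]
  · refine coheight_le_coheight_apply_of_strictMono _ (fun a b h => ?_) z
    have hle : b ⤳ a := Scheme.le_iff_specializes.1 h.le
    refine lt_of_le_not_ge (Scheme.le_iff_specializes.2 (hle.map π.continuous)) fun hge => h.ne ?_
    have heq : π a = π b := ((Scheme.le_iff_specializes.1 hge).antisymm (hle.map π.continuous)).eq
    exact (H12.eq_of_specializes_of_isIntegralHom π hle heq.symm).symm

variable {K : Type u} [Field K] (G : Over (Spec (CommRingCat.of K))) [GrpObj G] [LocallyOfFiniteType G.hom]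

/-- All closed points of a group scheme locally of finite type over a field have local rings of the
same dimension. -/
theorem coheight_eq_of_isClosed {g h : G.left} (hg : IsClosed ({g} : Set G.left))
    (hh : IsClosed ({h} : Set G.left)) : coheight g = coheight h := by
  let Kb := AlgebraicClosure K
  let φ := Spec.map (CommRingCat.ofHom (algebraMap K Kb))
  let F := Over.pullback φ
  let H := F.obj G
  haveI : GrpObj H := Functor.grpObjObj
  haveI : LocallyOfFiniteType H.hom := inferInstanceAs (LocallyOfFiniteType (pullback.snd G.hom φ))
  haveI : IsIntegralHom φ := by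
    rw [IsIntegralHom.SpecMap_iff]
    exact algebraMap_isIntegral_iff.2 inferInstance
  haveI : Surjective φ := ⟨Function.surjective_to_subsingleton
    (α := Spec (CommRingCat.of Kb)) (β := Spec (CommRingCat.of K)) _⟩
  let π : H.left ⟶ G.left := pullback.fst G.hom φ
  haveI : IsIntegralHom π := MorphismProperty.pullback_fst _ _ inferInstance
  haveI : Flat π := MorphismProperty.pullback_fst _ _ inferInstance
  haveI : Surjective π := MorphismProperty.pullback_fst _ _ inferInstance
  haveI : JacobsonSpace H.left := LocallyOfFiniteType.jacobsonSpace H.hom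
  have lifts : ∀ {x : G.left}, IsClosed ({x} : Set G.left) →
      ∃ x' : H.left, π x' = x ∧ IsClosed ({x'} : Set H.left) := fun {x} hx => by
    obtain ⟨z, hz⟩ := π.surjective x
    obtain ⟨x', hx', hx''⟩ := nonempty_inter_closedPoints (Z := (π ⁻¹' {x})) ⟨z, hz⟩
      (hx.preimage π.continuous).isLocallyClosed
    exact ⟨x', hx', hx''⟩
  obtain ⟨g', hg', hgc⟩ := lifts hg
  obtain ⟨h', hh', hhc⟩ := lifts hh
  rw [← hg', ← hh', coheight_apply_of_flat_isIntegralHom, coheight_apply_of_flat_isIntegralHom]
  let pg : 𝟙_ (Over (Spec (CommRingCat.of Kb))) ⟶ H := Over.homMk (pointOfClosedPoint H.hom g' hgc) (by simp)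
  let ph : 𝟙_ (Over (Spec (CommRingCat.of Kb))) ⟶ H := Over.homMk (pointOfClosedPoint H.hom h' hhc) (by simp)
  let τ : H ≅ H := (GrpObj.mulRight pg).symm ≪≫ GrpObj.mulRight ph
  have hτ : τ.hom.left g' = h' := by
    have e : pg ≫ τ.hom = ph := by
      dsimp only [Iso.trans_hom, Iso.symm_hom, τ]
      rw [← Category.assoc, ← Iso.eq_comp_inv]
      simp [comp_lift_assoc]
    simpa [pg, ph] using congr(($e).left (IsLocalRing.closedPoint Kb))
  haveI : IsIso τ.hom.left := inferInstanceAs (IsIso ((Over.forget _).map τ.hom))
  let e : H.left ≃o H.left :=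
    { τ.hom.left.homeomorph.toEquiv with
      map_rel_iff' := fun {a b} => by
        show τ.hom.left a ≤ τ.hom.left b ↔ a ≤ b
        rw [Scheme.le_iff_specializes, Scheme.le_iff_specializes]
        exact τ.hom.left.homeomorph.isInducing.specializes_iff }
  rw [← coheight_orderIso e g']
  exact congrArg coheight hτ

/-- The local ring at a closed point has the dimension of the whole group scheme. -/
theorem ringKrullDim_stalk_eq (g : G.left) (hg : IsClosed ({g} : Set G.left)) :
    ringKrullDim (G.left.presheaf.stalk g) = topologicalKrullDim G.left := by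
  haveI : JacobsonSpace G.left := LocallyOfFiniteType.jacobsonSpace G.hom
  haveI : IsLocallyNoetherian G.left := LocallyOfFiniteType.isLocallyNoetherian G.hom
  have hdim : topologicalKrullDim G.left = krullDim G.left := by
    rw [VarDim.scheme_dim_eq_iSup_height, krullDim_eq_iSup_height]
  rw [ringKrullDim_stalk_eq_coheight, hdim, krullDim_eq_iSup_coheight]
  refine le_antisymm (le_iSup (fun x : G.left => ((coheight x : ℕ∞) : WithBot ℕ∞)) g) (iSup_le fun x => ?_)
  obtain ⟨z, hz, hzc⟩ := nonempty_inter_closedPoints (Z := closure ({x} : Set G.left))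
    ⟨x, subset_closure rfl⟩ isClosed_closure.isLocallyClosed
  rw [coheight_eq_of_isClosed G hg hzc]
  exact WithBot.coe_le_coe.2 (coheight_anti (Scheme.le_iff_specializes.2 (specializes_iff_mem_closure.2 hz)))

end Groth.Agent.GrpField
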