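import Groth.Agent.Lib.AbRigid.Connected

/-!
# The identity component over an algebraically closed field
-/

open CategoryTheory Limits AlgebraicGeometry MonoidalCategory CartesianMonoidalCategory MonObj

set_option linter.style.haveILetI false
set_option backward.isDefEq.respectTransparency false

namespace Groth.Agent.GrpField

universe u

variable {K : Type u} [Field K] [IsAlgClosed K] (G : Over (Spec (CommRingCat.of K))) [GrpObj G]
  [LocallyOfFiniteType G.hom]

/-- Every point has an irreducible open neighbourhood. -/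
theorem exists_irreducible_open_nhd (x : G.left) :
    ∃ V : Set G.left, IsOpen V ∧ IsIrreducible V ∧ x ∈ V := by
  let pt : Spec (CommRingCat.of K) := IsLocalRing.closedPoint K
  haveI : JacobsonSpace G.left := LocallyOfFiniteType.jacobsonSpace (Y := Spec _) G.hom
  haveI : IsLocallyNoetherian G.left := LocallyOfFiniteType.isLocallyNoetherian G.hom
  obtain ⟨U, hU, hxU, -⟩ := exists_isAffineOpen_mem_and_subset (X := G.left) (x := η[G].left pt) (U := ⊤) trivial
  haveI : IsNoetherianRing Γ(G.left, U) := IsLocallyNoetherian.component_noetherian ⟨U, hU⟩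
  haveI : TopologicalSpace.NoetherianSpace U := noetherianSpace_of_isAffineOpen U hU
  haveI : Nonempty U := ⟨⟨_, hxU⟩⟩
  obtain ⟨V, hVo, hVi⟩ := AbRigid.exists_isOpen_isIrreducible (α := U)
  set V' : Set G.left := Subtype.val '' V
  have hV'o : IsOpen V' := U.isOpen.isOpenEmbedding_subtypeVal.isOpenMap V hVo
  have hV'i : IsIrreducible V' := hVi.image _ continuous_subtype_val.continuousOn
  obtain ⟨p, hp, hpc⟩ := nonempty_inter_closedPoints hV'i.1 hV'o.isLocallyClosed
  let p' : 𝟙_ (Over (Spec (CommRingCat.of K))) ⟶ G := Over.homMk (pointOfClosedPoint G.hom p hpc) (by simp)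
  obtain ⟨q, hq, hqc⟩ := nonempty_inter_closedPoints (Z := closure ({x} : Set G.left))
    ⟨x, subset_closure rfl⟩ isClosed_closure.isLocallyClosed
  let q' : 𝟙_ (Over (Spec (CommRingCat.of K))) ⟶ G := Over.homMk (pointOfClosedPoint G.hom q hqc) (by simp)
  let τ : G ≅ G := (GrpObj.mulRight q').symm ≪≫ GrpObj.mulRight p'
  have hτ : τ.hom.left q = p := by
    have h : q' ≫ τ.hom = p' := by
      dsimp only [Iso.trans_hom, Iso.symm_hom, τ]
      rw [← Category.assoc, ← Iso.eq_comp_inv]
      simp [q', comp_lift_assoc]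
    simpa [q', p', pt] using congr(($h).left pt)
  haveI : IsIso τ.hom.left := inferInstanceAs (IsIso ((Over.forget _).map τ.hom))
  refine ⟨τ.hom.left ⁻¹' V', hV'o.preimage τ.hom.left.continuous,
    ⟨⟨q, by rw [Set.mem_preimage, hτ]; exact hp⟩, hV'i.2.preimage τ.hom.left.isOpenEmbedding⟩, ?_⟩
  exact (specializes_iff_mem_closure.2 hq).mem_open (hV'o.preimage τ.hom.left.continuous)
    (by rw [Set.mem_preimage, hτ]; exact hp)

/-- Connected components are irreducible. -/
theorem isIrreducible_connectedComponent (x : G.left) : IsIrreducible (connectedComponent x) := by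
  haveI : ConnectedSpace (connectedComponent x) :=
    isConnected_iff_connectedSpace.1 isConnected_connectedComponent
  choose V hVo hVi hVx using exists_irreducible_open_nhd G
  have hsub : ∀ y : connectedComponent x, V y.1 ⊆ connectedComponent x := fun y =>
    ((hVi y.1).isConnected.isPreconnected.subset_connectedComponent (hVx y.1)).trans (connectedComponent_eq y.2).ge
  haveI : IrreducibleSpace (connectedComponent x) :=
    AbRigid.irreducibleSpace_of_cover (fun y : connectedComponent x => Subtype.val ⁻¹' V y.1)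
      (fun y => (hVo y.1).preimage continuous_subtype_val)
      (fun y => ⟨⟨y, hVx y.1⟩, fun u v hu hv ⟨a, ha, hau⟩ ⟨b, hb, hbv⟩ => by
        obtain ⟨u', hu', rfl⟩ := hu
        obtain ⟨v', hv', rfl⟩ := hv
        obtain ⟨c, hc, hcu, hcv⟩ := (hVi y.1).2 u' v' hu' hv' ⟨a.1, ha, hau⟩ ⟨b.1, hb, hbv⟩
        exact ⟨⟨c, hsub y hc⟩, hc, hcu, hcv⟩⟩)
      (Set.eq_univ_of_forall fun y => Set.mem_iUnion.2 ⟨y, hVx y.1⟩)
  have := (IrreducibleSpace.isIrreducible_univ (connectedComponent x)).image Subtype.val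
    continuous_subtype_val.continuousOn
  rwa [Set.image_univ, Subtype.range_coe] at this

theorem isOpen_connectedComponent (x : G.left) : IsOpen (connectedComponent x) := by
  rw [isOpen_iff_forall_mem_open]
  intro y hy
  obtain ⟨V, hVo, hVi, hyV⟩ := exists_irreducible_open_nhd G y
  exact ⟨V, connectedComponent_eq hy ▸ hVi.isConnected.isPreconnected.subset_connectedComponent hyV, hVo, hyV⟩

theorem exists_iso_div {C : Type*} [Category C] [CartesianMonoidalCategory C] (M : C) [GrpObj M] :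
    ∃ e : M ⊗ M ≅ M ⊗ M, e.hom ≫ fst M M = (𝟙 M ⊗ₘ ι[M]) ≫ μ[M] := by
  have h1 : (𝟙 M ⊗ₘ ι[M]) ≫ μ[M] = fst M M / snd M M := by
    rw [div_eq_mul_inv, Hom.inv_def, Hom.mul_def]
    congr 1
    apply CartesianMonoidalCategory.hom_ext <;> simp
  refine ⟨{ hom := lift (fst M M / snd M M) (snd M M), inv := lift (fst M M * snd M M) (snd M M),
            hom_inv_id := ?_, inv_hom_id := ?_ }, ?_⟩
  · apply CartesianMonoidalCategory.hom_ext <;> simp [MonObj.comp_mul, GrpObj.comp_div]
  · apply CartesianMonoidalCategory.hom_ext <;> simp [MonObj.comp_mul, GrpObj.comp_div]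
  · rw [h1]; exact lift_fst _ _

omit [IsAlgClosed K] [LocallyOfFiniteType G.hom] in
/-- The morphism `(g, h) ↦ g * h⁻¹` is universally open. -/
theorem universallyOpen_div : UniversallyOpen ((𝟙 G ⊗ₘ ι[G]) ≫ μ[G]).left := by
  obtain ⟨e, he⟩ := exists_iso_div G
  have h := he.symm
  rw [h, Over.comp_left]
  haveI : IsIso e.hom.left := ((Over.forget _).mapIso e).isIso_hom
  haveI : UniversallyOpen (fst G G).left := inferInstanceAs (UniversallyOpen (pullback.fst G.hom G.hom))
  infer_instance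

end Groth.Agent.GrpField

namespace Groth.Agent.GrpField

open CategoryTheory Limits AlgebraicGeometry MonoidalCategory CartesianMonoidalCategory MonObj

universe u

variable {K : Type u} [Field K] [IsAlgClosed K] (G : Over (Spec (CommRingCat.of K))) [GrpObj G]
  [LocallyOfFiniteType G.hom]

/-- Quotients of two points of a nonempty open of the identity component cover the component. -/
theorem connectedComponent_subset_range_div (U : G.left.Opens) (hne : (U : Set G.left).Nonempty)
    (hU : (U : Set G.left) ⊆ connectedComponent (η[G].left (IsLocalRing.closedPoint K))) :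
    connectedComponent (η[G].left (IsLocalRing.closedPoint K)) ⊆ Set.range
      ((((Over.homMk U.ι rfl : Over.mk (U.ι ≫ G.hom) ⟶ G) ⊗ₘ
          ((Over.homMk U.ι rfl : Over.mk (U.ι ≫ G.hom) ⟶ G) ≫ ι[G])) ≫ μ[G]).left) := by
  let e := η[G].left (IsLocalRing.closedPoint K)
  let jU : Over.mk (U.ι ≫ G.hom) ⟶ G := Over.homMk U.ι rfl
  haveI : JacobsonSpace G.left := LocallyOfFiniteType.jacobsonSpace G.hom
  have hopen : IsOpen (Set.range (((jU ⊗ₘ (jU ≫ ι[G])) ≫ μ[G]).left)) := by
    have h : (jU ⊗ₘ (jU ≫ ι[G])) ≫ μ[G] = (jU ⊗ₘ jU) ≫ (𝟙 G ⊗ₘ ι[G]) ≫ μ[G] := by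
      rw [← Category.assoc, tensorHom_comp_tensorHom, Category.comp_id]
    rw [h, Over.comp_left]
    haveI := universallyOpen_div G
    haveI : IsOpenImmersion jU.left := inferInstanceAs (IsOpenImmersion U.ι)
    haveI : IsOpenImmersion (jU ⊗ₘ jU).left := by
      rw [Over.tensorHom_left]; infer_instance
    exact ((jU ⊗ₘ jU).left ≫ ((𝟙 G ⊗ₘ ι[G]) ≫ μ[G]).left).isOpenMap.isOpen_range
  intro z hz
  by_contra hzR
  obtain ⟨g, ⟨hgC, hgR⟩, hgc⟩ := nonempty_inter_closedPoints
    (Z := connectedComponent e ∩ (Set.range (((jU ⊗ₘ (jU ≫ ι[G])) ≫ μ[G]).left))ᶜ) ⟨z, hz, hzR⟩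
    ((isClosed_connectedComponent.inter hopen.isClosed_compl).isLocallyClosed)
  apply hgR
  let g' : 𝟙_ (Over (Spec (CommRingCat.of K))) ⟶ G := Over.homMk (pointOfClosedPoint G.hom g hgc) (by simp)
  let L : G ⟶ G := lift (toUnit G ≫ g') (𝟙 G) ≫ μ[G]
  let L' : G ⟶ G := lift (toUnit G ≫ g'⁻¹) (𝟙 G) ≫ μ[G]
  have hL : ∀ {T : Over (Spec (CommRingCat.of K))} (a : T ⟶ G), a ≫ L = (toUnit T ≫ g') * a :=
    fun a => by simp [L, comp_lift_assoc, Hom.mul_def]
  have hL' : ∀ {T : Over (Spec (CommRingCat.of K))} (a : T ⟶ G), a ≫ L' = (toUnit T ≫ g')⁻¹ * a :=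
    fun a => by simp [L', comp_lift_assoc, Hom.mul_def, GrpObj.comp_inv]
  let E : G ≅ G :=
  { hom := L
    inv := L'
    hom_inv_id := by rw [hL' L, ← Category.id_comp L, hL]; simp
    inv_hom_id := by rw [hL L', ← Category.id_comp L', hL']; simp }
  haveI : IsIso L.left := ((Over.forget _).mapIso E).isIso_hom
  have he : η[G] ≫ L = g' := by
    rw [hL, one_eq_one]; simp
  have hLe : L.left e = g := by
    simpa [g', e] using congr(($he).left (IsLocalRing.closedPoint K))
  have hLC : L.left '' (U : Set G.left) ⊆ connectedComponent e := by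
    refine (Set.image_mono hU).trans ?_
    exact ((isConnected_connectedComponent.isPreconnected.image _
      L.left.continuous.continuousOn).subset_connectedComponent ⟨e, mem_connectedComponent, hLe⟩).trans
      (connectedComponent_eq hgC).ge
  obtain ⟨w, hwC, ⟨a, ha, rfl⟩, hwU⟩ := (isIrreducible_connectedComponent G e).2 _ _
    (L.left.isOpenEmbedding.isOpenMap _ U.isOpen) U.isOpen
    (by obtain ⟨u, hu⟩ := hne; exact ⟨L.left u, hLC ⟨u, hu, rfl⟩, u, hu, rfl⟩)
    (by obtain ⟨u, hu⟩ := hne; exact ⟨u, hU hu, hu⟩)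
  obtain ⟨h, ⟨hh, hhL⟩, hhc⟩ := nonempty_inter_closedPoints
    (Z := (U : Set G.left) ∩ L.left ⁻¹' U) ⟨a, ha, hwU⟩
    (U.isOpen.inter (U.isOpen.preimage L.left.continuous)).isLocallyClosed
  let h' : 𝟙_ (Over (Spec (CommRingCat.of K))) ⟶ G := Over.homMk (pointOfClosedPoint G.hom h hhc) (by simp)
  have lifts : ∀ p : 𝟙_ (Over (Spec (CommRingCat.of K))) ⟶ G, p.left (IsLocalRing.closedPoint K) ∈ U →
      ∃ p' : 𝟙_ (Over (Spec (CommRingCat.of K))) ⟶ Over.mk (U.ι ≫ G.hom), p' ≫ jU = p := fun p hp => by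
    have hr : Set.range p.left ⊆ Set.range U.ι := by
      rintro _ ⟨s, rfl⟩
      rw [Scheme.Opens.range_ι, Subsingleton.elim (α := Spec (CommRingCat.of K)) s (IsLocalRing.closedPoint K)]
      exact hp
    refine ⟨Over.homMk (IsOpenImmersion.lift U.ι p.left hr) ?_, ?_⟩
    · show IsOpenImmersion.lift U.ι p.left hr ≫ U.ι ≫ G.hom = _
      rw [IsOpenImmersion.lift_fac_assoc, Over.w p]
    · exact (Over.forget _).map_injective (IsOpenImmersion.lift_fac _ _ _)
  obtain ⟨v, hv⟩ := lifts h' (by simpa [h'] using hh)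
  obtain ⟨w, hw⟩ := lifts (h' ≫ L) (by simpa [h'] using hhL)
  have hdiv : lift w v ≫ ((jU ⊗ₘ (jU ≫ ι[G])) ≫ μ[G]) = g' := by
    rw [lift_map_assoc, hw, ← Category.assoc v, hv, ← Hom.mul_def, ← Hom.inv_def, hL]
    simp
  exact ⟨(lift w v).left (IsLocalRing.closedPoint K), by
    rw [← Scheme.Hom.comp_apply, ← Over.comp_left, hdiv]
    simp [g']⟩

end Groth.Agent.GrpField
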