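import Groth.Agent.Lib.GeomIrr18.Comp
import Groth.Agent.Lib.AbRigid.GrpTop
import Groth.Agent.Lib.CubeField.Simple
import Mathlib.FieldTheory.IsAlgClosed.AlgebraicClosure

/-!
# Irreducible components of an arbitrary group scheme over a field
-/

universe u

open CategoryTheory Limits AlgebraicGeometry MonoidalCategory CartesianMonoidalCategory MonObj

set_option linter.style.haveILetI false
set_option backward.isDefEq.respectTransparency false

namespace Groth.Agent.GrpField

open GeomIrr

variable {K : Type u} [Field K]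

/-- Over an algebraically closed field irreducible schemes are geometrically irreducible. -/
theorem geometricallyIrreducible_of_isAlgClosed [IsAlgClosed K] {X : Scheme.{u}}
    (f : X ⟶ Spec (CommRingCat.of K)) [IrreducibleSpace X] : GeometricallyIrreducible f := by
  letI : Algebra K (X.residueField (genericPoint X)) :=
    (Spec.preimage (X.fromSpecResidueField (genericPoint X) ≫ f)).hom.toAlgebra
  refine (geometricallyIrreducible_iff_generic f (Spec.map_preimage _)).2 fun a ha => ?_
  exact minpoly.mem_range_of_degree_eq_one _ _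
    (IsAlgClosed.degree_eq_one_of_irreducible _ (minpoly.irreducible ha.isIntegral))

/-- A closed irreducible set is the range of an irreducible closed subscheme. -/
theorem exists_closedImmersion_range {X : Scheme.{u}} {S : Set X} (hS : IsClosed S) (hSi : IsIrreducible S) :
    ∃ (Z : Scheme.{u}) (i : Z ⟶ X), IsClosedImmersion i ∧ IrreducibleSpace Z ∧ Set.range i = S := by
  let I := Scheme.IdealSheafData.vanishingIdeal (⟨S, hS⟩ : TopologicalSpace.Closeds X)
  have hrange : Set.range I.subschemeι = S := by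
    rw [Scheme.IdealSheafData.range_subschemeι]; simp [I]
  refine ⟨_, I.subschemeι, inferInstance, irreducibleSpace_def _ |>.2 ?_, hrange⟩
  have hgen := hSi.closure_genericPoint hS
  obtain ⟨x', hx'⟩ := hrange.ge (hgen.le (subset_closure (Set.mem_singleton hSi.genericPoint)))
  have h1 : IsGenericPoint x' (Set.univ : Set I.subscheme) := by
    refine Set.eq_univ_of_forall fun y => ?_
    rw [← specializes_iff_mem_closure, ← I.subschemeι.isEmbedding.isInducing.specializes_iff, hx',
      specializes_iff_mem_closure, hgen, ← hrange]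
    exact ⟨y, rfl⟩
  exact h1.isIrreducible

/-- A rational point in the range of a closed immersion lifts. -/
theorem exists_lift_point {G B : Over (Spec (CommRingCat.of K))} (i : B ⟶ G) [IsClosedImmersion i.left]
    (x : 𝟙_ (Over (Spec (CommRingCat.of K))) ⟶ G) (hx : x.left (IsLocalRing.closedPoint K) ∈ Set.range i.left) :
    ∃ x' : 𝟙_ (Over (Spec (CommRingCat.of K))) ⟶ B, x' ≫ i = x := by
  obtain ⟨z, hz⟩ := hx
  let b : Spec (CommRingCat.of K) ⟶ G.left := x.left
  obtain ⟨w, -, -⟩ := Scheme.Pullback.exists_preimage_pullback (f := i.left) (g := b) z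
    (IsLocalRing.closedPoint K) hz
  haveI : Surjective (pullback.snd i.left b) :=
    ⟨fun s => ⟨w, Subsingleton.elim (α := Spec (CommRingCat.of K)) _ _⟩⟩
  haveI : IsIso (pullback.snd i.left b) := isIso_of_isClosedImmersion_of_surjective _
  have h : (inv (pullback.snd i.left b) ≫ pullback.fst i.left b) ≫ i.left = b := by
    rw [Category.assoc, pullback.condition, IsIso.inv_hom_id_assoc]
  refine ⟨Over.homMk (inv (pullback.snd i.left b) ≫ pullback.fst i.left b) ?_, ?_⟩
  · rw [← Over.w i, ← Category.assoc, h]; exact Over.w x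
  · ext1; exact h

variable (G : Over (Spec (CommRingCat.of K))) [GrpObj G]

/-- Two irreducible closed subsets through a rational point lie in a common one. -/
theorem exists_irreducible_superset [IsAlgClosed K] (x : 𝟙_ (Over (Spec (CommRingCat.of K))) ⟶ G)
    {S₁ S₂ : Set G.left} (h₁ : IsClosed S₁) (h₁i : IsIrreducible S₁) (hx₁ : x.left (IsLocalRing.closedPoint K) ∈ S₁)
    (h₂ : IsClosed S₂) (h₂i : IsIrreducible S₂) (hx₂ : x.left (IsLocalRing.closedPoint K) ∈ S₂) :
    ∃ T : Set G.left, IsIrreducible T ∧ S₁ ⊆ T ∧ S₂ ⊆ T := by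
  obtain ⟨Z₁, i₁, hc₁, hZ₁, hr₁⟩ := exists_closedImmersion_range h₁ h₁i
  obtain ⟨Z₂, i₂, hc₂, hZ₂, hr₂⟩ := exists_closedImmersion_range h₂ h₂i
  let B₁ := Over.mk (i₁ ≫ G.hom)
  let B₂ := Over.mk (i₂ ≫ G.hom)
  let j₁ : B₁ ⟶ G := Over.homMk i₁ rfl
  let j₂ : B₂ ⟶ G := Over.homMk i₂ rfl
  haveI : IsClosedImmersion j₁.left := hc₁
  haveI : IsClosedImmersion j₂.left := hc₂
  haveI := geometricallyIrreducible_of_isAlgClosed (i₂ ≫ G.hom)
  haveI : IrreducibleSpace (B₁ ⊗ B₂).left := inferInstanceAs (IrreducibleSpace ↥(pullback (i₁ ≫ G.hom) (i₂ ≫ G.hom)))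
  obtain ⟨x₁, e₁⟩ := exists_lift_point j₁ x (hr₁.ge hx₁)
  obtain ⟨x₂, e₂⟩ := exists_lift_point j₂ x (hr₂.ge hx₂)
  let φ : B₁ ⊗ B₂ ⟶ G := (fst _ _ ≫ j₁) * (toUnit _ ≫ x)⁻¹ * (snd _ _ ≫ j₂)
  refine ⟨Set.range φ.left, by rw [← Set.image_univ]; exact (IrreducibleSpace.isIrreducible_univ _).image _ φ.left.continuous.continuousOn, ?_, ?_⟩
  · rw [← hr₁]
    rintro _ ⟨z, rfl⟩
    refine ⟨(lift (𝟙 B₁) (toUnit B₁ ≫ x₂)).left z, ?_⟩
    rw [← AbRigid.left_comp_apply]
    simp only [φ, comp_mul, GrpObj.comp_inv, lift_fst_assoc, lift_snd_assoc, Category.id_comp, comp_toUnit_assoc,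
      Category.assoc, e₂, inv_mul_cancel_right]
    rfl
  · rw [← hr₂]
    rintro _ ⟨z, rfl⟩
    refine ⟨(lift (toUnit B₂ ≫ x₁) (𝟙 B₂)).left z, ?_⟩
    rw [← AbRigid.left_comp_apply]
    simp only [φ, comp_mul, GrpObj.comp_inv, lift_fst_assoc, lift_snd_assoc, Category.id_comp, comp_toUnit_assoc,
      Category.assoc, e₁, _root_.mul_inv_cancel, _root_.one_mul]
    rfl

/-- A unique maximal point specialises to a rational point. -/
theorem eq_of_specializes_rational [IsAlgClosed K] (x : 𝟙_ (Over (Spec (CommRingCat.of K))) ⟶ G) {w₁ w₂ : G.left}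
    (h₁ : IsMaximalPt w₁) (h₁x : w₁ ⤳ x.left (IsLocalRing.closedPoint K))
    (h₂ : IsMaximalPt w₂) (h₂x : w₂ ⤳ x.left (IsLocalRing.closedPoint K)) : w₁ = w₂ := by
  obtain ⟨T, hT, hT₁, hT₂⟩ := exists_irreducible_superset G x isClosed_closure isIrreducible_singleton.closure
    (specializes_iff_mem_closure.1 h₁x) isClosed_closure isIrreducible_singleton.closure
    (specializes_iff_mem_closure.1 h₂x)
  have hg := hT.isGenericPoint_genericPoint_closure
  rw [← h₁ _ (hg.specializes (subset_closure (hT₁ (subset_closure rfl)))),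
    ← h₂ _ (hg.specializes (subset_closure (hT₂ (subset_closure rfl))))]

/-- A unique maximal point specialises to any point. -/
theorem eq_of_specializes {x y₁ y₂ : G.left} (h₁ : IsMaximalPt y₁) (h₁x : y₁ ⤳ x)
    (h₂ : IsMaximalPt y₂) (h₂x : y₂ ⤳ x) : y₁ = y₂ := by
  let g : Spec (G.left.residueField x) ⟶ Spec (CommRingCat.of K) := G.left.fromSpecResidueField x ≫ G.hom
  letI : Algebra K (G.left.residueField x) := (Spec.preimage g).hom.toAlgebra
  let Ω := AlgebraicClosure (G.left.residueField x)
  let ρ : Spec (CommRingCat.of Ω) ⟶ Spec (G.left.residueField x) :=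
    Spec.map (CommRingCat.ofHom (algebraMap (G.left.residueField x) Ω))
  let φ : Spec (CommRingCat.of Ω) ⟶ Spec (CommRingCat.of K) := ρ ≫ g
  let G₁ := (Over.pullback φ).obj G
  letI : GrpObj G₁ := Functor.grpObjObj
  let a : Spec (CommRingCat.of Ω) ⟶ G.left := ρ ≫ G.left.fromSpecResidueField x
  let b : Spec (CommRingCat.of Ω) ⟶ G₁.left := pullback.lift a (𝟙 _) (by simp [a, φ, g])
  let p : 𝟙_ (Over (Spec (CommRingCat.of Ω))) ⟶ G₁ := Over.homMk b (pullback.lift_snd _ _ _)
  let π : G₁.left ⟶ G.left := pullback.fst G.hom φ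
  have hπp : π (p.left (IsLocalRing.closedPoint Ω)) = x := by
    show π (b (IsLocalRing.closedPoint Ω)) = x
    rw [← Scheme.Hom.comp_apply, show b ≫ π = a from pullback.lift_fst _ _ _]
    exact Scheme.fromSpecResidueField_apply x _
  haveI : Flat φ := inferInstance
  haveI : Flat π := MorphismProperty.pullback_fst _ _ inferInstance
  have hlift : ∀ y : G.left, IsMaximalPt y → y ⤳ x →
      ∃ w : G₁.left, IsMaximalPt w ∧ w ⤳ p.left (IsLocalRing.closedPoint Ω) ∧ π w = y := fun y hy hyx => by
    obtain ⟨y', hy'1, hy'2⟩ := exists_specializes π (hπp.symm ▸ hyx)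
    obtain ⟨w, hw, hwy⟩ := exists_maximal_specializes y'
    exact ⟨w, hw, hwy.trans hy'1, hy _ (hy'2 ▸ hwy.map π.continuous)⟩
  obtain ⟨w₁, hw₁, hw₁x, rfl⟩ := hlift y₁ h₁ h₁x
  obtain ⟨w₂, hw₂, hw₂x, rfl⟩ := hlift y₂ h₂ h₂x
  rw [eq_of_specializes_rational G₁ p hw₁ hw₁x hw₂ hw₂x]

/-- Exactly one irreducible component contains a given point. -/
theorem existsUnique_component (x : G.left) : ∃! Z : Set G.left, Z ∈ irreducibleComponents G.left ∧ x ∈ Z := by
  refine ⟨irreducibleComponent x, ⟨irreducibleComponent_mem_irreducibleComponents x, mem_irreducibleComponent⟩, ?_⟩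
  rintro Z ⟨hZ, hxZ⟩
  obtain ⟨w, hw, rfl⟩ := exists_generic_component hZ
  obtain ⟨v, hv, hvc⟩ := exists_generic_component (irreducibleComponent_mem_irreducibleComponents x)
  rw [← hvc, eq_of_specializes G hw (specializes_iff_mem_closure.2 hxZ) hv
    (specializes_iff_mem_closure.2 (hvc.ge mem_irreducibleComponent))]

/-- Local rings of a group scheme over a field have one minimal prime. -/
theorem subsingleton_minimalPrimes_stalk (x : G.left) : (minimalPrimes (G.left.presheaf.stalk x)).Subsingleton := by
  let f := G.left.fromSpecStalk x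
  have hmem : ∀ q : Spec (G.left.presheaf.stalk x), f q ⤳ x := fun q => by
    have h : f (IsLocalRing.closedPoint _) = x := Scheme.fromSpecStalk_closedPoint
    exact ((IsLocalRing.specializes_closedPoint q).map f.continuous).trans (specializes_of_eq h)
  have hmax : ∀ q : Spec (G.left.presheaf.stalk x), q.asIdeal ∈ minimalPrimes (G.left.presheaf.stalk x) →
      IsMaximalPt (f q) := fun q hq w hw => by
    obtain ⟨r, rfl⟩ : w ∈ Set.range f := by
      rw [Scheme.range_fromSpecStalk]; exact hw.trans (hmem q)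
    have hle : r.asIdeal ≤ q.asIdeal := (PrimeSpectrum.le_iff_specializes r q).2 (f.isEmbedding.isInducing.specializes_iff.1 hw)
    exact congrArg f (PrimeSpectrum.ext (le_antisymm hle (hq.2 ⟨r.isPrime, bot_le⟩ hle)))
  intro P hP Q hQ
  have := eq_of_specializes G (hmax ⟨P, hP.1.1⟩ hP) (hmem _) (hmax ⟨Q, hQ.1.1⟩ hQ) (hmem _)
  exact congrArg PrimeSpectrum.asIdeal (f.isEmbedding.injective this)

/-- A closed irreducible component through the unit is geometrically irreducible. -/
theorem geometricallyIrreducible_component {Z : Scheme.{u}} (incl : Z ⟶ G.left) [IsClosedImmersion incl]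
    [IrreducibleSpace Z] (hZ : Set.range incl ∈ irreducibleComponents G.left)
    (he : η[G].left (IsLocalRing.closedPoint K) ∈ Set.range incl) : GeometricallyIrreducible (incl ≫ G.hom) := by
  let f := incl ≫ G.hom
  let Ω := AlgebraicClosure K
  let φ := Spec.map (CommRingCat.ofHom (algebraMap K Ω))
  haveI : IsIntegralHom φ := by
    rw [IsIntegralHom.SpecMap_iff]
    exact algebraMap_isIntegral_iff.2 inferInstance
  let G₁ := (Over.pullback φ).obj G
  letI : GrpObj G₁ := Functor.grpObjObj
  let π : G₁.left ⟶ G.left := pullback.fst G.hom φ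
  let Z₁ := pullback f φ
  let q : Z₁ ⟶ Z := pullback.fst f φ
  haveI : IsIntegralHom q := MorphismProperty.pullback_fst _ _ inferInstance
  haveI : Flat π := MorphismProperty.pullback_fst _ _ inferInstance
  haveI : Flat q := MorphismProperty.pullback_fst _ _ inferInstance
  haveI : IsClosedImmersion (Over.homMk incl rfl : Over.mk f ⟶ G).left := ‹IsClosedImmersion incl›
  obtain ⟨z₀, hz₀⟩ := exists_lift_point (B := Over.mk f) (Over.homMk incl rfl : Over.mk f ⟶ G) η[G] he
  let j : Z₁ ⟶ G₁.left := pullback.lift (q ≫ incl) (pullback.snd f φ) (by simp [q, f, φ, pullback.condition])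
  have hj : IsPullback j q π incl := by
    refine IsPullback.of_right (h₁₂ := pullback.snd G.hom φ) (v₁₃ := φ) (h₂₂ := G.hom) ?_ (pullback.lift_fst _ _ _)
      (IsPullback.of_hasPullback G.hom φ).flip
    rw [pullback.lift_snd]
    exact (IsPullback.of_hasPullback f φ).flip
  haveI : IsClosedImmersion j := MorphismProperty.of_isPullback hj.flip inferInstance
  -- all points over the unit are one
  let pt : Spec (CommRingCat.of K) := IsLocalRing.closedPoint K
  have hfib : ∀ p p', q p = z₀.left pt → q p' = z₀.left pt → p = p' := by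
    intro p p' hp hp'
    have hmem : ∀ r, q r = z₀.left pt → r ∈ Set.range (pullback.fst q z₀.left) := fun r hr => by
      rw [Scheme.Pullback.range_fst]; exact ⟨pt, hr.symm⟩
    obtain ⟨t, ht⟩ := hmem p hp
    obtain ⟨t', ht'⟩ := hmem p' hp'
    haveI : Subsingleton ↥(pullback q z₀.left) := by
      have hP : IsPullback (pullback.fst q z₀.left ≫ pullback.snd f φ) (pullback.snd q z₀.left) φ (z₀.left ≫ f) :=
        IsPullback.paste_horiz (IsPullback.of_hasPullback q z₀.left) (IsPullback.of_hasPullback f φ).flip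
      haveI : IsIso (z₀.left ≫ f) := by
        rw [show z₀.left ≫ f = _ from Over.w z₀]; exact inferInstanceAs (IsIso (𝟙 _))
      haveI : IsIso (pullback.fst q z₀.left ≫ pullback.snd f φ) := hP.isIso_fst_of_isIso
      exact (pullback.fst q z₀.left ≫ pullback.snd f φ).homeomorph.injective.subsingleton
    rw [← ht, ← ht', Subsingleton.elim t t']
  obtain ⟨o, ho⟩ := q.surjective (z₀.left pt)
  let e₁ : 𝟙_ (Over (Spec (CommRingCat.of Ω))) ⟶ G₁ := η[G₁]
  have hξ : IsMaximalPt (incl (genericPoint Z)) := by
    refine isMaximalPt_of_closure_mem ?_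
    rw [← Set.image_singleton, incl.isClosedMap.closure_image_eq_of_continuous incl.continuous,
      genericPoint_closure, Set.image_univ]
    exact hZ
  have hgen : ∀ w : Z₁, IsMaximalPt w → IsMaximalPt (j w) ∧ w ⤳ o := by
    intro w hw
    have hqw : q w = genericPoint Z := by
      obtain ⟨w', h1, h2⟩ := exists_specializes q (show genericPoint Z ⤳ q w from genericPoint_specializes _)
      rw [← h2, hw w' h1]
    refine ⟨fun y hy => ?_, ?_⟩
    · have h1 : π y = incl (genericPoint Z) := hξ _ (by
        have := hy.map π.continuous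
        rwa [← Scheme.Hom.comp_apply, hj.w, Scheme.Hom.comp_apply, hqw] at this)
      obtain ⟨y', hy', -⟩ := Scheme.Pullback.exists_preimage_pullback (f := π) (g := incl) y (genericPoint Z) h1
      obtain rfl : j (hj.flip.flip.isoPullback.inv y') = y := by
        rw [← Scheme.Hom.comp_apply, IsPullback.isoPullback_inv_fst]; exact hy'
      rw [hw _ (j.isEmbedding.isInducing.specializes_iff.1 hy)]
    · have h1 : z₀.left pt ∈ q '' closure {w} := by
        rw [← q.isClosedMap.closure_image_eq_of_continuous q.continuous, Set.image_singleton, hqw,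
          genericPoint_closure]
        trivial
      obtain ⟨v, hv, hve⟩ := h1
      exact specializes_iff_mem_closure.2 (hfib v o hve ho ▸ hv)
  haveI : IrreducibleSpace Z₁ := by
    obtain ⟨w₀, hw₀, -⟩ := exists_maximal_specializes o
    refine irreducibleSpace_def _ |>.2 (?_ : IsIrreducible (Set.univ : Set Z₁))
    refine (show IsGenericPoint w₀ (Set.univ : Set Z₁) from Set.eq_univ_of_forall fun y => ?_).isIrreducible
    obtain ⟨w, hw, hwy⟩ := exists_maximal_specializes y
    have : j w = j w₀ := eq_of_specializes G₁ (x := j o) (hgen w hw).1 ((hgen w hw).2.map j.continuous)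
      (hgen w₀ hw₀).1 ((hgen w₀ hw₀).2.map j.continuous)
    rw [← j.isEmbedding.injective this]
    exact specializes_iff_mem_closure.1 hwy
  let f₁ := pullback.snd f φ
  haveI := geometricallyIrreducible_of_isAlgClosed f₁
  refine (geometricallyIrreducible_iff_self f).2 ?_
  let s : pullback f₁ f₁ ⟶ pullback f f := pullback.lift (pullback.fst _ _ ≫ q) (pullback.snd _ _ ≫ q) (by
    simp only [Category.assoc, q, pullback.condition]
    rw [← Category.assoc, ← Category.assoc, pullback.condition])
  have hs : Function.Surjective s := by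
    intro y
    haveI : Surjective φ := inferInstance
    obtain ⟨y', hy'⟩ := (pullback.fst (pullback.fst f f ≫ f) φ).surjective y
    let r : pullback (pullback.fst f f ≫ f) φ ⟶ pullback f₁ f₁ :=
      pullback.lift (pullback.lift (pullback.fst (pullback.fst f f ≫ f) φ ≫ pullback.fst f f) (pullback.snd _ φ) (by
          rw [Category.assoc]; exact pullback.condition))
        (pullback.lift (pullback.fst (pullback.fst f f ≫ f) φ ≫ pullback.snd f f) (pullback.snd (pullback.fst f f ≫ f) φ) (by
          rw [Category.assoc]; exact (whisker_eq _ (pullback.condition (f := f) (g := f)).symm).trans pullback.condition))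
        (by simp [f₁])
    refine ⟨r y', ?_⟩
    rw [← Scheme.Hom.comp_apply, ← hy']
    exact congrArg (fun e : _ ⟶ pullback f f => e y') (show r ≫ s = pullback.fst (pullback.fst f f ≫ f) φ by
      apply pullback.hom_ext <;> simp [r, s, q])
  exact hs.preirreducibleSpace s.continuous |> fun h =>
    { toPreirreducibleSpace := h, toNonempty := ⟨s (Classical.arbitrary _)⟩ }

end Groth.Agent.GrpField
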