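import Groth.Agent.Lib.GrpField.Smooth

/-!
# Group schemes with trivial tangent space
-/

open CategoryTheory Limits AlgebraicGeometry MonoidalCategory CartesianMonoidalCategory MonObj

set_option linter.style.haveILetI false
set_option backward.isDefEq.respectTransparency false

namespace Groth.Agent.GrpField

universe u

variable {K : Type u} [Field K] [IsAlgClosed K] (G : Over (Spec (CommRingCat.of K))) [GrpObj G]
  [LocallyOfFiniteType G.hom] [QuasiCompact G.hom]

theorem finite_discrete_of_cotangent
    (h : Subsingleton (IsLocalRing.CotangentSpace (G.left.presheaf.stalk (unitPoint G)))) :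
    Finite G.left ∧ DiscreteTopology G.left ∧
      ∀ g : G.left, Function.Bijective (RegSmooth17.toStalk G.hom g) := by
  haveI : IsLocallyNoetherian G.left := LocallyOfFiniteType.isLocallyNoetherian G.hom
  haveI : CompactSpace G.left := QuasiCompact.compactSpace_of_compactSpace G.hom
  haveI : AlgebraicGeometry.IsNoetherian G.left := {}
  have h0 : Module.finrank (IsLocalRing.ResidueField (G.left.presheaf.stalk (unitPoint G)))
      (IsLocalRing.CotangentSpace (G.left.presheaf.stalk (unitPoint G))) = 0 :=
    Module.finrank_zero_of_subsingleton
  have hle : topologicalKrullDim G.left ≤ 0 := by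
    simpa [h0] using topologicalKrullDim_le_finrank G
  have heq : topologicalKrullDim G.left = 0 := le_antisymm hle
    (ringKrullDim_stalk_eq G _ (isClosed_unitPoint G) ▸ ringKrullDim_nonneg_of_nontrivial)
  haveI : Smooth G.hom := (smooth_iff_finrank_eq G).2 (by simpa [h0] using heq)
  haveI : T1Space G.left := ⟨fun x => closure_eq_iff_isClosed.1
    (Set.eq_singleton_iff_unique_mem.2 ⟨subset_closure rfl, fun y hy =>
      (H12.eq_of_specializes_of_dim_le_zero hle (specializes_iff_mem_closure.2 hy)).symm⟩)⟩
  haveI : Finite G.left := by
    haveI := (TopologicalSpace.NoetherianSpace.finite_irreducibleComponents (α := G.left)).to_subtype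
    refine Finite.of_injective (β := irreducibleComponents G.left)
      (fun x => ⟨irreducibleComponent x, irreducibleComponent_mem_irreducibleComponents x⟩) fun x y hxy => ?_
    have hxy' : irreducibleComponent x = irreducibleComponent y := congrArg Subtype.val hxy
    have hy : y ∈ irreducibleComponent x := hxy' ▸ mem_irreducibleComponent
    by_contra hne
    obtain ⟨z, hz⟩ := (quasiSober_iff _).1 inferInstance (isIrreducible_irreducibleComponent (x := x))
      isClosed_irreducibleComponent
    rw [isGenericPoint_def, closure_singleton] at hz
    rw [← hz] at hy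
    have hx : x ∈ ({z} : Set G.left) := hz ▸ mem_irreducibleComponent
    exact hne (hx.trans hy.symm)
  refine ⟨inferInstance, inferInstance, fun g => ?_⟩
  haveI : IsRegularLocalRing (G.left.presheaf.stalk g) := WeilExt.isRegularLocalRing_stalk_of_smooth G.hom g
  have hg := (IsRegularLocalRing.iff_finrank_cotangentSpace (G.left.presheaf.stalk g)).1 inferInstance
  rw [ringKrullDim_stalk_eq G g isClosed_singleton, heq] at hg
  have hf : IsField (G.left.presheaf.stalk g) :=
    IsLocalRing.finrank_cotangentSpace_eq_zero_iff.1 (by exact_mod_cast hg)
  have hb := bijective_residue_of_section G.hom (pointOfClosedPoint G.hom g isClosed_singleton)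
    (by simp)
  have e : pointOfClosedPoint G.hom g isClosed_singleton (IsLocalRing.closedPoint K) = g := by simp
  rw [e] at hb
  letI := hf.toField
  exact ⟨RingHom.injective _, fun b => by
    obtain ⟨c, hc⟩ := hb.2 ((G.left.residue g).hom b)
    exact ⟨c, (G.left.residue g).hom.injective hc⟩⟩

omit [IsAlgClosed K] [QuasiCompact G.hom] in
theorem cotangent_of_bijective (h : ∀ g : G.left, Function.Bijective (RegSmooth17.toStalk G.hom g)) :
    Subsingleton (IsLocalRing.CotangentSpace (G.left.presheaf.stalk (unitPoint G))) :=
  haveI : IsLocallyNoetherian G.left := LocallyOfFiniteType.isLocallyNoetherian G.hom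
  IsLocalRing.subsingleton_cotangentSpace_iff.2
    (MulEquiv.isField (Field.toIsField K) (RingEquiv.ofBijective _ (h (unitPoint G))).symm.toMulEquiv)

end Groth.Agent.GrpField
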